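import Groth.Agent.FibAmple.Spread
import Groth.Agent.AmpleX.Rel
import Groth.Agent.AmpleVan.SpreadFibre

/-!
# Ampleness on a fibre of a proper morphism spreads to a neighbourhood
-/

set_option linter.style.haveILetI false
set_option linter.unusedSectionVars false
set_option backward.isDefEq.respectTransparency false
set_option backward.isDefEq.respectTransparency.types false
set_option maxHeartbeats 1000000

universe u

open CategoryTheory CategoryTheory.Limits AlgebraicGeometry TopologicalSpace Opposite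
open Groth.Agent.H23.PicMul

attribute [local instance] HasDerivedCategory.standard

noncomputable section

namespace Groth.Agent.FibAmple

open Groth.Agent Groth.Agent.AmpleVan

/-- If `L` is ample on the fibre over `y` of a proper morphism, it is ample over a neighbourhood of `y`. -/
theorem exists_nhd_ample {X Y : Scheme.{u}} (f : X ⟶ Y) [IsProper f] [IsLocallyNoetherian Y] {L : X.Modules}
    (hL : PicF.IsInvertible L) (y : Y) (hy : CohB1.IsAmple ((Scheme.Modules.pullback (f.fiberι y)).obj L)) :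
    ∃ V : Y.Opens, y ∈ V ∧ ∀ W : Y.Opens, W ≤ V → IsAffineOpen W → CohB1.IsAmple (L.restrict (f ⁻¹ᵁ W).ι) := by
  classical
  obtain ⟨_, ⟨W₀, hW₀', rfl⟩, hyV, -⟩ :=
    Y.isBasis_affineOpens.exists_subset_of_mem_open (Set.mem_univ y) isOpen_univ
  have hW₀ : IsAffineOpen W₀ := hW₀'
  let B := Γ(Y, W₀)
  haveI : IsNoetherianRing B := IsLocallyNoetherian.component_noetherian ⟨W₀, hW₀⟩
  let W := f ⁻¹ᵁ W₀
  letI : (W : Scheme.{u}).Over (Spec (CommRingCat.of B)) := ⟨QCoh.overSpec f hW₀⟩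
  let π := (W : Scheme.{u}) ↘ Spec (CommRingCat.of B)
  haveI : IsProper π := by
    show IsProper ((f ∣_ W₀) ≫ hW₀.isoSpec.hom)
    infer_instance
  let A := Y.presheaf.stalk y
  letI : Algebra B A := QCoh.stalkAlg hyV
  let y' : Spec (CommRingCat.of B) := hW₀.primeIdealOf ⟨y, hyV⟩
  haveI : IsLocalization y'.asIdeal.primeCompl A := QCoh.isLocalization_stalk' hW₀ hyV
  let loc := Spec.map (CommRingCat.ofHom (algebraMap B A))
  have hloc : loc ≫ hW₀.fromSpec = Y.fromSpecStalk y := hW₀.fromSpecStalk_eq_fromSpecStalk hyV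
  let t := Spec.map (CommRingCat.ofHom (Ideal.Quotient.mk (IsLocalRing.maximalIdeal A)))
  let q : f.fiber y ⟶ Spec (CommRingCat.of (A ⧸ IsLocalRing.maximalIdeal A)) := f.fiberToSpecResidueField y
  have hres : (t ≫ loc) ≫ hW₀.fromSpec = Y.fromSpecResidueField y := by
    rw [Category.assoc, hloc]
    rfl
  have hbig : IsPullback (f.fiberι y) q f ((t ≫ loc) ≫ hW₀.fromSpec) := by
    rw [hres]
    exact IsPullback.of_hasPullback _ _
  have hpb := isPullback_overSpec' f hW₀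
  let i₀ : f.fiber y ⟶ (W : Scheme.{u}) := hpb.lift (f.fiberι y) (q ≫ t ≫ loc) (by
    rw [Category.assoc, Category.assoc]; exact hbig.w.trans (by rw [Category.assoc]))
  have hi₀ : i₀ ≫ W.ι = f.fiberι y := hpb.lift_fst _ _ _
  have sq₀ : IsPullback i₀ q π (t ≫ loc) := IsPullback.of_right (by rw [hi₀]; exact hbig) (hpb.lift_snd _ _ _) hpb
  let L' := L.restrict W.ι
  have hL' : PicF.IsInvertible L' := AmpleX.isInvertible_restrict W.ι hL
  have hy' : CohB1.IsAmple ((Scheme.Modules.pullback i₀).obj L') :=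
    AmpleX.isAmple_of_iso ((Scheme.Modules.pullbackCongr hi₀.symm).app L ≪≫
      ((Scheme.Modules.pullbackComp i₀ W.ι).app L).symm ≪≫
      (Scheme.Modules.pullback i₀).mapIso ((Scheme.Modules.restrictFunctorIsoPullback W.ι).app L).symm) hy
  have hsec : ∀ x : X, f x = y → ∃ (m : ℕ) (_ : 0 < m) (a : Γ(CohB1.tensorPow L m, W.ι ''ᵁ ⊤)),
      x ∈ AmpleX.locus a ∧ IsAffineOpen (AmpleX.locus a) := fun x hx => by
    obtain ⟨z, hz⟩ : x ∈ Set.range (f.fiberι y) := by rw [Scheme.Hom.range_fiberι]; exact hx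
    have hz' : W.ι (i₀ z) = x := by rw [← Scheme.Hom.comp_apply, hi₀]; exact hz
    have hπ : π (i₀ z) = y' := by
      refine hW₀.fromSpec.isOpenEmbedding.injective ?_
      rw [show hW₀.fromSpec y' = y from hW₀.fromSpec_primeIdealOf ⟨y, hyV⟩]
      refine (congr($(hpb.w) (i₀ z))).symm.trans ?_
      show f (W.ι (i₀ z)) = y
      rw [hz', hx]
    obtain ⟨m, hm, a', hxa, ha⟩ := exists_locus_near hL' y' (A := A) sq₀ hy' z rfl hπ
    obtain ⟨a, hla⟩ := AmpleX.exists_section_extendable W.ι (InvX.ofSect a')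
    rw [AmpleX.genLocus_eq_locus, InvX.one_ofSect] at hla
    exact ⟨m, hm, a, hla.symm ▸ ⟨i₀ z, hxa, hz'⟩, hla.symm ▸ ha.image_of_isOpenImmersion W.ι⟩
  choose m hm a hxa ha using hsec
  let O : X.Opens := ⨆ x : {x : X // f x = y}, AmpleX.locus (a x.1 x.2)
  have hBad : IsClosed (f '' ((O : Set X)ᶜ)) := f.isClosedMap _ O.2.isClosed_compl
  have hyBad : y ∉ f '' ((O : Set X)ᶜ) := by
    rintro ⟨x, hxO, hxy⟩
    exact hxO (Opens.mem_iSup.2 ⟨⟨x, hxy⟩, hxa x hxy⟩)
  refine ⟨W₀ ⊓ ⟨_, hBad.isOpen_compl⟩, ⟨hyV, hyBad⟩, fun U hUV hU => ?_⟩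
  refine AmpleX.isAmple_preimage_of_local hL hU fun x hxU => ?_
  have hxO : x ∈ O := by
    by_contra hn
    exact (hUV hxU).2 ⟨x, hn, rfl⟩
  obtain ⟨⟨x₀, hx₀⟩, hxa'⟩ := Opens.mem_iSup.1 hxO
  obtain ⟨r, s, hrs, hxr⟩ := exists_basicOpen_le_affine_inter hU hW₀ (f x) ⟨hxU, (hUV hxU).1⟩
  have hle : f ⁻¹ᵁ Y.basicOpen r ≤ W.ι ''ᵁ ⊤ := by
    rw [Scheme.Opens.ι_image_top, hrs]
    exact f.preimage_mono (Y.basicOpen_le s)
  refine ⟨r, m x₀ hx₀, hm x₀ hx₀, AModX.res _ hle (a x₀ hx₀), ?_, ?_⟩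
  · rw [AmpleX.locus_res]
    exact ⟨hxa', hxr⟩
  · rw [AmpleX.locus_res]
    have hl : AmpleX.locus (a x₀ hx₀) ≤ f ⁻¹ᵁ W₀ :=
      (AmpleX.locus_le _).trans (Scheme.Opens.ι_image_top W).le
    have : AmpleX.locus (a x₀ hx₀) ⊓ f ⁻¹ᵁ Y.basicOpen r =
        X.basicOpen (X.presheaf.map (homOfLE hl).op (f.app W₀ s)) := by
      rw [Scheme.basicOpen_res, ← Scheme.preimage_basicOpen, hrs]
    rw [this]
    exact (ha x₀ hx₀).basicOpen _

end Groth.Agent.FibAmple
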