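import Groth.Agent.AmpleVan.AdicMod
import Groth.Agent.AmpleVan.Criterion
import Groth.Agent.AmpleVan.SpreadFibre
import Groth.Agent.FFun.GoodM
import Groth.Agent.S0002
import Groth.Agent.AmpleX.RelAffine
import Groth.Agent.PicClLib.Basic
import Mathlib.RingTheory.Nakayama

/-!
# Ampleness on the closed fibre over a Noetherian local base
-/

set_option linter.style.haveILetI false
set_option linter.unusedSectionVars false
set_option backward.isDefEq.respectTransparency false
set_option backward.isDefEq.respectTransparency.types false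

universe u

open CategoryTheory CategoryTheory.Limits AlgebraicGeometry TopologicalSpace Opposite
open Groth.Agent.PnCoh.Finite (mapLin)
open Groth.Agent.H23.PicMul

attribute [local instance] HasDerivedCategory.standard

noncomputable section

namespace Groth.Agent.FibAmple

open Groth.Agent Groth.Agent.AmpleVan

variable {A : Type u} [CommRing A] {X : Scheme.{u}} [X.Over (Spec (CommRingCat.of A))]

theorem isPullback_thickTrans (J : Ideal A) (k : ℕ) :
    IsPullback (CohB1.thickTrans (X ↘ Spec (CommRingCat.of A)) J k)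
      (CohB1.thickToBase (X ↘ Spec (CommRingCat.of A)) J k)
      (CohB1.thickToBase (X ↘ Spec (CommRingCat.of A)) J (k + 1)) (CohB1.specQuotTrans J k) := by
  refine IsPullback.of_right ?_ (pullback.lift_snd _ _ _) (IsPullback.of_hasPullback _ _)
  have h : CohB1.thickTrans (X ↘ Spec (CommRingCat.of A)) J k ≫ pullback.fst _ _ =
      pullback.fst (X ↘ Spec (CommRingCat.of A)) (CohB1.specQuot J k) :=
    (pullback.lift_fst _ _ _).trans (Category.comp_id _)
  rw [h, CohB1.specQuotTrans_specQuot]
  exact IsPullback.of_hasPullback _ _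

theorem thickTrans_ι (J : Ideal A) (k : ℕ) :
    CohB1.thickTrans (X ↘ Spec (CommRingCat.of A)) J k ≫ CohB1.thickι (X ↘ Spec (CommRingCat.of A)) J (k + 1) =
      CohB1.thickι (X ↘ Spec (CommRingCat.of A)) J k :=
  (pullback.lift_fst _ _ _).trans (Category.comp_id _)

variable (A X) in
/-- The thickenings of the base change to `A / J` as an adic system. -/
def sys (J : Ideal A) : AdicSys A J :=
  ⟨fun k => CohB1.thick (X ↘ Spec (CommRingCat.of A)) J k,
    fun k => CohB1.thickToBase (X ↘ Spec (CommRingCat.of A)) J k,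
    fun k => CohB1.thickTrans (X ↘ Spec (CommRingCat.of A)) J k, fun k => isPullback_thickTrans J k⟩

/-- Ampleness on the closed fibre gives vanishing of higher cohomology of high twists. -/
theorem exists_vanishing [IsNoetherianRing A] [IsLocalRing A] [IsProper (X ↘ Spec (CommRingCat.of A))]
    {Z : Scheme.{u}} {i : Z ⟶ X} {q : Z ⟶ Spec (CommRingCat.of (A ⧸ IsLocalRing.maximalIdeal A))}
    (sq : IsPullback i q (X ↘ Spec (CommRingCat.of A))
      (Spec.map (CommRingCat.ofHom (Ideal.Quotient.mk (IsLocalRing.maximalIdeal A)))))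
    {L : X.Modules} (hL : PicF.IsInvertible L) (ha : CohB1.IsAmple ((Scheme.Modules.pullback i).obj L))
    {M : X.Modules} (hM : Coh.IsCoh M) :
    ∃ n₀, ∀ n, n₀ ≤ n → ∀ p, Subsingleton (Coh.HH X (CohB1.tensorMod M (CohB1.tensorPow L n)) (p + 1)) := by
  let π := X ↘ Spec (CommRingCat.of A)
  let J := IsLocalRing.maximalIdeal A
  haveI : IsLocallyNoetherian X := LocallyOfFiniteType.isLocallyNoetherian π
  haveI : CompactSpace X := QuasiCompact.compactSpace_of_compactSpace π
  haveI : IsNoetherian X := { __ := ‹IsLocallyNoetherian X›, __ := ‹CompactSpace X› }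
  let S := sys A X J
  let ι := fun k => CohB1.thickι π J k
  haveI : ∀ k, IsClosedImmersion (ι k) := fun k =>
    MorphismProperty.of_isPullback (IsPullback.of_hasPullback π (CohB1.specQuot J k)).flip
      (AdicSys.closed_specQuot J k)
  have hp : IsProper (S.p 0) := inferInstanceAs (IsProper (pullback.snd π (CohB1.specQuot J 0)))
  let Mk : AdicMod S :=
    ⟨fun k => (Scheme.Modules.pullback (ι k)).obj M, fun k => ZClosLib.isCoh_pullback (ι k) hM,
      fun k => (Scheme.Modules.pullbackComp _ _).app M ≪≫ (Scheme.Modules.pullbackCongr (thickTrans_ι J k)).app M,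
      fun k => S.isLocallyNoetherian hp k⟩
  let Lk := fun k => (Scheme.Modules.pullback (ι k)).obj L
  have ha0 : CohB1.IsAmple (Lk 0) := by
    have hJ : J ^ (0 + 1) = J := by rw [zero_add, pow_one]
    let φ : CommRingCat.of (A ⧸ J) ⟶ CommRingCat.of (A ⧸ J ^ (0 + 1)) :=
      CommRingCat.ofHom (Ideal.Quotient.factor hJ.ge)
    haveI : IsIso φ := by
      refine (ConcreteCategory.isIso_iff_bijective _).2 ⟨?_, Ideal.Quotient.factor_surjective hJ.ge⟩
      intro a b hab
      obtain ⟨a, rfl⟩ := Ideal.Quotient.mk_surjective a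
      obtain ⟨b, rfl⟩ := Ideal.Quotient.mk_surjective b
      exact (Ideal.Quotient.eq).2 (hJ.le ((Ideal.Quotient.eq).1 hab))
    have h1 : IsPullback (ι 0) (CohB1.thickToBase π J 0 ≫ Spec.map φ) π
        (Spec.map (CommRingCat.ofHom (Ideal.Quotient.mk J))) := by
      refine (IsPullback.of_hasPullback π (CohB1.specQuot J 0)).of_iso (Iso.refl _) (Iso.refl _)
        (asIso (Spec.map φ)) (Iso.refl _) (by simp [ι, CohB1.thickι]) (by simp) (by simp) ?_
      simp only [asIso_hom, Iso.refl_hom, Category.comp_id, CohB1.specQuot, ← Spec.map_comp]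
      rfl
    let e := h1.isoIsPullback _ _ sq
    haveI : IsOpenImmersion e.hom := inferInstance
    haveI : CompactSpace (CohB1.thick π J 0) := QuasiCompact.compactSpace_of_compactSpace (S.p 0)
    refine AmpleX.isAmple_of_iso ((Scheme.Modules.pullbackComp e.hom i).app L ≪≫
      (Scheme.Modules.pullbackCongr (h1.isoIsPullback_hom_fst _ _ sq)).app L) ?_
    refine AmpleX.isAmple_pullback_of_isOpenImmersion e.hom ha.1 fun z => ?_
    obtain ⟨m, hm, s, hz, hs⟩ := (AmpleX.isAmple_iff.1 ha).2.2 (e.hom z)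
    exact ⟨m, hm, s, hz, fun w _ => ⟨e.inv w, by rw [← Scheme.Hom.comp_apply, e.inv_hom_id]; rfl⟩, hs⟩
  obtain ⟨n₀, hn₀⟩ := Mk.exists_vanishing hp Lk (fun k => PicClLib.isInvertible_pullback (ι k) hL)
    (fun k => ⟨(Scheme.Modules.pullbackComp _ _).app L ≪≫ (Scheme.Modules.pullbackCongr (thickTrans_ι J k)).app L⟩) ha0
  refine ⟨n₀, fun n hn p => ?_⟩
  let N := CohB1.tensorMod M (CohB1.tensorPow L n)
  have hN : Coh.IsCoh N := isCoh_tensor hM (isCoh_invertible (InvX.isInvertible_tensorPow hL n))
  haveI := Groth.Agent.S0002.result A X N hN (p + 1)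
  obtain ⟨k, hk⟩ := (FFun.goodM_of_finite hN (fun m => Groth.Agent.S0002.result A X N hN m) J (p + 1)).1 1
  have hvan : ∀ k, Subsingleton (Coh.HH X (FFun.modJ (J ^ (k + 1)) N) (p + 1)) := fun k => by
    obtain ⟨h, hiso⟩ := unit_desc_iso (IsPullback.of_hasPullback π (CohB1.specQuot J k)) hN.1
    haveI := hiso
    obtain ⟨e⟩ : Nonempty ((Scheme.Modules.pullback (ι k)).obj N ≅ CohB1.tensorMod (Mk.F k) (CohB1.tensorPow (Lk k) n)) :=
      cl_eq_iff.1 (by
        show PicF.pullCl (ι k) (PicF.cl N) = _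
        rw [cl_tensor, cl_tensor, cl_tensorPow, cl_tensorPow, pullCl_mul, pullCl_pow]
        rfl)
    have hq : Coh.IsQCoh ((Scheme.Modules.pullback (ι k)).obj N) := QCoh.isQCoh_pullback _ hN.1
    obtain ⟨E⟩ := QCoh.HH_push_of_isAffineHom (ι k) hq (p + 1)
    haveI := QCoh.subsingleton_HH_of_iso e.symm (p + 1) (hn₀ n hn k p).1
    exact QCoh.subsingleton_HH_of_iso (asIso (cokernel.desc _ _ h)).symm (p + 1) E.symm.toEquiv.subsingleton
  have key : (⊤ : Submodule A (Coh.HH X N (p + 1))) ≤ J • ⊤ := fun x _ => by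
    rw [← pow_one J]
    refine hk x ?_
    have h1 : mapLin A (FFun.modJπ (J ^ (k + 1)) N) (p + 1) x = 0 := (hvan k).elim _ _
    exact FFun.π_eq_zero_of_le (Ideal.pow_le_pow_right (Nat.le_succ k)) h1
  have htop := Submodule.eq_bot_of_le_smul_of_le_jacobson_bot J (⊤ : Submodule A (Coh.HH X N (p + 1)))
    Module.Finite.fg_top key (IsLocalRing.maximalIdeal_le_jacobson _)
  exact subsingleton_of_forall_eq 0 fun x => (Submodule.eq_bot_iff _).1 htop x trivial

/-- Ampleness on the closed fibre over a Noetherian local ring gives ampleness. -/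
theorem isAmple_of_closedFibre [IsNoetherianRing A] [IsLocalRing A] [IsProper (X ↘ Spec (CommRingCat.of A))]
    {Z : Scheme.{u}} {i : Z ⟶ X} {q : Z ⟶ Spec (CommRingCat.of (A ⧸ IsLocalRing.maximalIdeal A))}
    (sq : IsPullback i q (X ↘ Spec (CommRingCat.of A))
      (Spec.map (CommRingCat.ofHom (Ideal.Quotient.mk (IsLocalRing.maximalIdeal A)))))
    {L : X.Modules} (hL : PicF.IsInvertible L) (ha : CohB1.IsAmple ((Scheme.Modules.pullback i).obj L)) :
    CohB1.IsAmple L := by
  haveI : IsLocallyNoetherian X := LocallyOfFiniteType.isLocallyNoetherian (X ↘ Spec (CommRingCat.of A))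
  haveI : CompactSpace X := QuasiCompact.compactSpace_of_compactSpace (X ↘ Spec (CommRingCat.of A))
  haveI := isSeparated_of_proper (X := X) (A := A)
  refine isAmple_of_HH_one hL fun C hC => ?_
  obtain ⟨n, hn⟩ := exists_vanishing sq hL ha (QCoh.isCoh_of_mono (QCoh.vanIdeal C).ι
    QCoh.isCoh_structureModule' (QCoh.isQCoh_vanIdeal C))
  exact ⟨n, hn (n + 1) (Nat.le_succ n) 0⟩

end Groth.Agent.FibAmple
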