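import Groth.Agent.FibAmple.Local
import Groth.Agent.AmpleX.Sect
import Groth.Agent.AmpleX.Basis

/-!
# Spreading affine generating loci from the localised base
-/

set_option linter.style.haveILetI false
set_option linter.unusedSectionVars false
set_option backward.isDefEq.respectTransparency false
set_option backward.isDefEq.respectTransparency.types false

universe u

open CategoryTheory CategoryTheory.Limits AlgebraicGeometry TopologicalSpace Opposite
open Groth.Agent.H23.PicMul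

attribute [local instance] HasDerivedCategory.standard

noncomputable section

namespace Groth.Agent.FibAmple

open Groth.Agent Groth.Agent.AmpleVan

variable {B : Type u} [CommRing B] {X : Scheme.{u}} [X.Over (Spec (CommRingCat.of B))]

theorem basicOpen_toGlobal (b : B) :
    X.basicOpen (Coh.toGlobal (X ↘ Spec (CommRingCat.of B)) b) =
      (X ↘ Spec (CommRingCat.of B)) ⁻¹ᵁ PrimeSpectrum.basicOpen b := by
  show X.basicOpen ((X ↘ Spec (CommRingCat.of B)).appTop ((Scheme.ΓSpecIso (CommRingCat.of B)).inv b)) = _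
  rw [← Scheme.preimage_basicOpen_top, AlgebraicGeometry.basicOpen_eq_of_affine]

theorem mem_preimage_basicOpen (b : B) (w : X) :
    w ∈ (X ↘ Spec (CommRingCat.of B)) ⁻¹ᵁ PrimeSpectrum.basicOpen b ↔
      b ∉ ((X ↘ Spec (CommRingCat.of B)) w).asIdeal := Iff.rfl

/-- An open containing the points over the generalisations of a prime contains them over a basic open. -/
theorem exists_basicOpen_le {W U : X.Opens} (hW : IsAffineOpen W) (p : PrimeSpectrum B)
    (h : ∀ w ∈ W, ((X ↘ Spec (CommRingCat.of B)) w).asIdeal ≤ p.asIdeal → w ∈ U) :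
    ∃ b ∉ p.asIdeal, W ⊓ (X ↘ Spec (CommRingCat.of B)) ⁻¹ᵁ PrimeSpectrum.basicOpen b ≤ U := by
  let φ : B →+* Γ(X, W) := FFun.φsec W
  have hφ : ∀ b, X.basicOpen (φ b) = W ⊓ (X ↘ Spec (CommRingCat.of B)) ⁻¹ᵁ PrimeSpectrum.basicOpen b := fun b => by
    show X.basicOpen (X.presheaf.map (homOfLE (le_top : W ≤ ⊤)).op (Coh.toGlobal (X ↘ Spec (CommRingCat.of B)) b)) = _
    rw [Scheme.basicOpen_res, basicOpen_toGlobal]
  obtain ⟨I, hI⟩ := (PrimeSpectrum.isClosed_iff_zeroLocus_ideal _).1 ((hW.fromSpec ⁻¹ᵁ U).2.isClosed_compl)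
  by_cases hd : Disjoint (I : Set Γ(X, W)) (p.asIdeal.primeCompl.map φ : Submonoid Γ(X, W))
  · obtain ⟨P, hP, hIP, hdis⟩ := Ideal.exists_le_prime_disjoint I _ hd
    exfalso
    let q : PrimeSpectrum Γ(X, W) := ⟨P, hP⟩
    have hwW : hW.fromSpec q ∈ W := by
      have : hW.fromSpec q ∈ hW.fromSpec.opensRange := ⟨q, rfl⟩
      rwa [hW.opensRange_fromSpec] at this
    have hwU : hW.fromSpec q ∉ U := by
      have hq : q ∈ PrimeSpectrum.zeroLocus (I : Set Γ(X, W)) := hIP
      rw [← hI] at hq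
      exact hq
    refine hwU (h _ hwW fun b hb => ?_)
    by_contra hbp
    have hmem : hW.fromSpec q ∈ X.basicOpen (φ b) := by
      by_contra hn
      have h1 : φ b ∈ P := by
        by_contra h2
        exact hn ((QCoh.mem_basicOpen_fromSpec hW q _).2 h2)
      exact Set.disjoint_left.1 hdis h1 ⟨b, hbp, rfl⟩
    rw [hφ] at hmem
    exact (mem_preimage_basicOpen b _).1 hmem.2 hb
  · obtain ⟨r, hrI, b, hbp, rfl⟩ := Set.not_disjoint_iff.1 hd
    refine ⟨b, hbp, fun w hw => ?_⟩
    rw [← hφ] at hw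
    have hwW : w ∈ W := X.basicOpen_le _ hw
    have hq : hW.primeIdealOf ⟨w, hwW⟩ ∉ PrimeSpectrum.zeroLocus (I : Set Γ(X, W)) := fun hz => by
      have := (QCoh.mem_basicOpen_iff_notMem hW hwW (φ b)).1 hw
      exact this (hz hrI)
    rw [← hI] at hq
    have hq' : hW.fromSpec (hW.primeIdealOf ⟨w, hwW⟩) ∈ U := not_not.1 hq
    rwa [hW.fromSpec_primeIdealOf] at hq'

/-- A point over a prime with ample fibre has an affine generating locus around it. -/
theorem exists_locus_near [IsNoetherianRing B] [IsProper (X ↘ Spec (CommRingCat.of B))]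
    {L : X.Modules} (hL : PicF.IsInvertible L) (y : Spec (CommRingCat.of B))
    {A : Type u} [CommRing A] [IsLocalRing A] [Algebra B A] [IsLocalization y.asIdeal.primeCompl A]
    {Z : Scheme.{u}} {i : Z ⟶ X} {q : Z ⟶ Spec (CommRingCat.of (A ⧸ IsLocalRing.maximalIdeal A))}
    (sq : IsPullback i q (X ↘ Spec (CommRingCat.of B))
      (Spec.map (CommRingCat.ofHom (Ideal.Quotient.mk (IsLocalRing.maximalIdeal A))) ≫
        Spec.map (CommRingCat.ofHom (algebraMap B A))))
    (hy : CohB1.IsAmple ((Scheme.Modules.pullback i).obj L)) {x : X} (z : Z) (hz : i z = x)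
    (hx : (X ↘ Spec (CommRingCat.of B)) x = y) :
    ∃ (m : ℕ) (_ : 0 < m) (a : Γ(CohB1.tensorPow L m, ⊤)),
      x ∈ AmpleX.locus a ∧ IsAffineOpen (AmpleX.locus a) := by
  classical
  let π := X ↘ Spec (CommRingCat.of B)
  haveI : IsLocallyNoetherian X := LocallyOfFiniteType.isLocallyNoetherian π
  haveI : CompactSpace X := QuasiCompact.compactSpace_of_compactSpace π
  haveI : X.IsSeparated := isSeparated_of_proper (X := X) (A := B)
  let S := y.asIdeal.primeCompl
  haveI : IsNoetherianRing A := IsLocalization.isNoetherianRing S A inferInstance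
  let loc := Spec.map (CommRingCat.ofHom (algebraMap B A))
  letI : (pullback π loc).Over (Spec (CommRingCat.of A)) := ⟨pullback.snd π loc⟩
  haveI : IsProper (pullback π loc ↘ Spec (CommRingCat.of A)) := inferInstanceAs (IsProper (pullback.snd π loc))
  let X₁ := pullback π loc
  let g : X₁ ⟶ X := pullback.fst π loc
  haveI : X₁.IsSeparated := isSeparated_of_proper (X := X₁) (A := A)
  let t₀ := Spec.map (CommRingCat.ofHom (Ideal.Quotient.mk (IsLocalRing.maximalIdeal A)))
  have sq₁ : IsPullback g (pullback.snd π loc) π loc := IsPullback.of_hasPullback π loc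
  let i₁ : Z ⟶ X₁ := sq₁.lift i (q ≫ t₀) (by rw [Category.assoc]; exact sq.w)
  have hi : i₁ ≫ g = i := sq₁.lift_fst _ _ _
  have sq₂ : IsPullback i₁ q (X₁ ↘ Spec (CommRingCat.of A)) t₀ :=
    IsPullback.of_right (by rw [hi]; exact sq) (sq₁.lift_snd _ _ _) sq₁
  have hL₁ : PicF.IsInvertible ((Scheme.Modules.pullback g).obj L) := PicClLib.isInvertible_pullback g hL
  have hA₁ : CohB1.IsAmple ((Scheme.Modules.pullback g).obj L) :=
    isAmple_of_closedFibre sq₂ hL₁ (AmpleX.isAmple_of_iso ((Scheme.Modules.pullbackCongr hi.symm).app L ≪≫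
      ((Scheme.Modules.pullbackComp i₁ g).app L).symm) hy)
  have hgx : g (i₁ z) = x := by
    rw [← Scheme.Hom.comp_apply, hi]
    exact hz
  obtain ⟨_, ⟨U, hU, rfl⟩, hxU, -⟩ :=
    X.isBasis_affineOpens.exists_subset_of_mem_open (Set.mem_univ x) isOpen_univ
  obtain ⟨m, hm, σ₀, hσx, hσU, -⟩ := AmpleX.exists_genLocus_le hA₁ (x := i₁ z) (U := g ⁻¹ᵁ U)
    (show g (i₁ z) ∈ U from hgx.symm ▸ hxU)
  have hN : PicF.IsInvertible (CohB1.tensorPow L m) := InvX.isInvertible_tensorPow hL m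
  obtain ⟨e⟩ : Nonempty (CohB1.tensorPow ((Scheme.Modules.pullback g).obj L) m ≅
      (Scheme.Modules.pullback g).obj (CohB1.tensorPow L m)) := cl_eq_iff.1 (by
    show _ = PicF.pullCl g (PicF.cl (CohB1.tensorPow L m))
    rw [cl_tensorPow, cl_tensorPow, pullCl_pow]
    rfl)
  let σ : Γ((Scheme.Modules.pullback g).obj (CohB1.tensorPow L m), g ⁻¹ᵁ ⊤) := e.hom.app ⊤ (InvX.one σ₀)
  have hσ : AmpleX.locus σ = CohB1.genLocus _ σ₀ := by
    rw [AmpleX.genLocus_eq_locus]
    exact AmpleX.locus_iso e (InvX.one σ₀)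
  obtain ⟨b, hb, t, ht⟩ := exists_global (S := S)
    (κ := (Scheme.Modules.pullbackPushforwardAdjunction g).unit.app (CohB1.tensorPow L m))
    (fun w => ⟨⊤, trivial, isSIso_unit (A := B) (B := A) (g := g) S (IsPullback.of_hasPullback π loc) (ProjUPX.isQCoh_of_isInvertible hN) ⊤⟩) σ
  let r : Γ(X₁, g ⁻¹ᵁ ⊤) := g.app ⊤ (Coh.toGlobal π b)
  have ht' : InvX.pullElt g (U := ⊤) t = r • σ := by
    refine ht.trans ?_
    refine (FFun.smulMod_app _ b ⊤ _).trans ?_
    rw [show (show Γ(X, ⊤) from Coh.resTop X (op ⊤) (Coh.toGlobal π b)) = Coh.toGlobal π b from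
      congr(($(X.presheaf.map_id (op ⊤))) (Coh.toGlobal π b))]
    rfl
  have hr : X₁.basicOpen r = ⊤ := by
    refine top_le_iff.1 fun v _ => ?_
    show v ∈ X₁.basicOpen (g.app ⊤ (Coh.toGlobal π b))
    rw [← Scheme.preimage_basicOpen, basicOpen_toGlobal]
    refine (mem_preimage_basicOpen b _).2 fun hbv => ?_
    have h1 : π (g v) = loc (pullback.snd π loc v) := by
      rw [← Scheme.Hom.comp_apply, pullback.condition]
      rfl
    rw [h1] at hbv
    exact (pullback.snd π loc v).isPrime.ne_top (Ideal.eq_top_of_isUnit_mem _ hbv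
      (IsLocalization.map_units A (⟨b, hb⟩ : S)))
  have hloc : g ⁻¹ᵁ AmpleX.locus t = CohB1.genLocus _ σ₀ := by
    rw [← AmpleX.locus_pullElt hN g t, ht', AmpleX.locus_smul (PicClLib.isInvertible_pullback g hN), hσ, hr, inf_top_eq]
  let G := AmpleX.locus t
  have hxG : x ∈ G := by
    have : i₁ z ∈ g ⁻¹ᵁ G := hloc.symm ▸ hσx
    exact hgx ▸ (show g (i₁ z) ∈ G from this)
  have hgen : ∀ w ∈ G, (π w).asIdeal ≤ y.asIdeal → w ∈ U := fun w hw hle => by
    obtain ⟨v, hv⟩ : w ∈ Set.range g := by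
      rw [Scheme.Pullback.range_fst]
      show π w ∈ Set.range (PrimeSpectrum.comap (algebraMap B A))
      rw [PrimeSpectrum.localization_comap_range A S]
      exact Set.disjoint_left.2 fun a ha ha' => ha (hle ha')
    subst hv
    exact hσU (hloc ▸ (show v ∈ g ⁻¹ᵁ G from hw))
  obtain ⟨K, hK⟩ := isCompact_univ.elim_finite_subcover (fun V : X.affineOpens => (V.1 : Set X)) (fun V => V.1.2)
    fun w _ => by
      obtain ⟨_, ⟨V, hV, rfl⟩, hwV, -⟩ := X.isBasis_affineOpens.exists_subset_of_mem_open (Set.mem_univ w) isOpen_univ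
      exact Set.mem_iUnion.2 ⟨⟨V, hV⟩, hwV⟩
  choose c hc hcU using fun V : X.affineOpens => exists_basicOpen_le
    (AmpleX.isAffineOpen_inf_locus hN V.2 t le_top) y (U := U) fun w hw hle => hgen w hw.2 hle
  let C := ∏ V ∈ K, c V
  have hC : C ∉ y.asIdeal := fun h => by
    obtain ⟨V, -, hV⟩ := Ideal.IsPrime.prod_mem_iff.1 h
    exact hc V hV
  let cX : Γ(X, ⊤) := Coh.toGlobal π C
  let a : Γ(CohB1.tensorPow L m, ⊤) := cX • (show Γ(CohB1.tensorPow L m, ⊤) from t)
  have ha : AmpleX.locus a = G ⊓ π ⁻¹ᵁ PrimeSpectrum.basicOpen C := by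
    show AmpleX.locus (cX • (show Γ(CohB1.tensorPow L m, ⊤) from t)) = _
    rw [AmpleX.locus_smul hN, basicOpen_toGlobal]
  have haU : AmpleX.locus a ≤ U := fun w hw => by
    rw [ha] at hw
    obtain ⟨V, hV, hwV⟩ := Set.mem_iUnion₂.1 (hK (Set.mem_univ w))
    refine hcU V ⟨⟨hwV, hw.1⟩, (mem_preimage_basicOpen _ _).2 fun hmem => ?_⟩
    exact (mem_preimage_basicOpen _ _).1 hw.2
      (Ideal.mem_of_dvd _ (Finset.dvd_prod_of_mem c hV) hmem)
  refine ⟨m, hm, a, ?_, ?_⟩
  · rw [ha]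
    exact ⟨hxG, (mem_preimage_basicOpen _ _).2 (by rw [show π x = y from hx]; exact hC)⟩
  · have := AmpleX.isAffineOpen_inf_locus hN hU a le_top
    rwa [inf_eq_right.2 haU] at this

end Groth.Agent.FibAmple
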